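import Groth.Prelude.Def_Coh
import Mathlib.AlgebraicGeometry.Modules.Sheaf
import Mathlib.AlgebraicGeometry.Noetherian
import Mathlib.Topology.NoetherianSpace

/-!
# Arbitrary sheaves of ideals on a Noetherian scheme are finitely generated
-/

set_option autoImplicit false
set_option maxHeartbeats 400000
set_option linter.style.haveILetI false
set_option backward.isDefEq.respectTransparency false

universe u

open CategoryTheory CategoryTheory.Limits AlgebraicGeometry Opposite TopologicalSpace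

namespace GrothLib.IdealACC20

variable {X : Scheme.{u}}

/-- A section of a module mapping to the structure sheaf, as a function. -/
noncomputable def val {P : X.Modules} (f : P ⟶ Coh.structureModule X) (W : X.Opens) (q : Γ(P, W)) :
    Γ(X, W) := f.app W q

theorem res_res {A B C : X.Opens} (i : B ⟶ A) (j : C ⟶ B) (h : C ≤ A) (x : Γ(X, A)) :
    X.presheaf.map j.op (X.presheaf.map i.op x) = X.presheaf.map (homOfLE h).op x := by
  rw [← ConcreteCategory.comp_apply, ← Functor.map_comp, ← op_comp,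
    Subsingleton.elim (j ≫ i) (homOfLE h)]

theorem val_map {P : X.Modules} (f : P ⟶ Coh.structureModule X) {W W' : X.Opens} (h : W' ≤ W)
    (q : Γ(P, W)) : val f W' (P.presheaf.map (homOfLE h).op q) =
      X.presheaf.map (homOfLE h).op (val f W q) :=
  ConcreteCategory.congr_hom (f.mapPresheaf.naturality (homOfLE h).op) q

theorem val_add {P : X.Modules} (f : P ⟶ Coh.structureModule X) (W : X.Opens) (q q' : Γ(P, W)) :
    val f W (q + q') = val f W q + val f W q' := map_add (f.app W).hom q q'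

theorem val_zero {P : X.Modules} (f : P ⟶ Coh.structureModule X) (W : X.Opens) :
    val f W (0 : Γ(P, W)) = 0 := map_zero (f.app W).hom

theorem val_smul {P : X.Modules} (f : P ⟶ Coh.structureModule X) (W : X.Opens) (r : Γ(X, W))
    (q : Γ(P, W)) : val f W (r • q) = r * val f W q := Scheme.Modules.Hom.app_smul f r q

theorem val_comp {P P' : X.Modules} (g : P ⟶ P') (f : P' ⟶ Coh.structureModule X) (W : X.Opens)
    (q : Γ(P, W)) : val (g ≫ f) W q = val f W (g.app W q) := rfl

theorem val_injective {P : X.Modules} (f : P ⟶ Coh.structureModule X) [Mono f] (W : X.Opens) :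
    Function.Injective (val f W) := by
  haveI : Mono ((Scheme.Modules.toPresheaf X).map f) := inferInstance
  haveI : Mono (f.app W) := (NatTrans.mono_iff_mono_app ((Scheme.Modules.toPresheaf X).map f)).1
    inferInstance (op W)
  exact (AddCommGrpCat.mono_iff_injective (f.app W)).1 inferInstance

/-- The ideal of the local ring made of the germs of the sections of `P`. -/
noncomputable def img {P : X.Modules} (f : P ⟶ Coh.structureModule X) (y : X) :
    Ideal (X.presheaf.stalk y) where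
  carrier := {z | ∃ (W : X.Opens) (hy : y ∈ W) (q : Γ(P, W)), X.presheaf.germ W y hy (val f W q) = z}
  zero_mem' := ⟨⊤, trivial, 0, by rw [val_zero, map_zero]⟩
  add_mem' := by
    rintro _ _ ⟨W, hW, q, rfl⟩ ⟨W', hW', q', rfl⟩
    refine ⟨W ⊓ W', ⟨hW, hW'⟩, P.presheaf.map (homOfLE inf_le_left).op q +
      P.presheaf.map (homOfLE inf_le_right).op q', ?_⟩
    rw [val_add, val_map, val_map, map_add, TopCat.Presheaf.germ_res_apply,
      TopCat.Presheaf.germ_res_apply]
  smul_mem' := by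
    rintro c _ ⟨W', hW', q', rfl⟩
    obtain ⟨W, hW, r, rfl⟩ := X.presheaf.exists_germ_eq c
    refine ⟨W ⊓ W', ⟨hW, hW'⟩, (X.presheaf.map (homOfLE (inf_le_left : W ⊓ W' ≤ W)).op r : Γ(X, W ⊓ W')) •
      (P.presheaf.map (homOfLE (inf_le_right : W ⊓ W' ≤ W')).op q' : Γ(P, W ⊓ W')), ?_⟩
    rw [val_smul, val_map, map_mul, TopCat.Presheaf.germ_res_apply,
      TopCat.Presheaf.germ_res_apply, smul_eq_mul]

theorem img_mono {P P' : X.Modules} (g : P ⟶ P') (f : P' ⟶ Coh.structureModule X) (y : X) :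
    img (g ≫ f) y ≤ img f y := by
  rintro _ ⟨W, hW, q, rfl⟩
  exact ⟨W, hW, g.app W q, rfl⟩

/-- Near a point, finitely many sections generate along its specializations. -/
theorem exists_nhd_gen [IsLocallyNoetherian X] {P : X.Modules} (f : P ⟶ Coh.structureModule X) (η : X) :
    ∃ (W : X.Opens) (_ : η ∈ W) (k : ℕ) (t : Fin k → Γ(P, W)), ∀ y ∈ W, η ⤳ y →
      ∀ (P' : X.Modules) (f' : P' ⟶ Coh.structureModule X), img f' η ≤ img f η →
      ∀ (V : X.Opens), y ∈ V → ∀ q : Γ(P', V), ∃ (V' : X.Opens) (_ : y ∈ V') (h : V' ≤ V)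
        (hW : V' ≤ W) (c : Fin k → Γ(X, V')),
        val f' V' (P'.presheaf.map (homOfLE h).op q) =
          val f V' (∑ i, c i • P.presheaf.map (homOfLE hW).op (t i)) := by
  classical
  obtain ⟨_, ⟨U, hU, rfl⟩, hηU, -⟩ :=
    X.isBasis_affineOpens.exists_subset_of_mem_open (Set.mem_univ η) isOpen_univ
  haveI : IsNoetherianRing Γ(X, U) := IsLocallyNoetherian.component_noetherian ⟨U, hU⟩
  obtain ⟨k, a, ha⟩ := Submodule.fg_iff_exists_fin_generating_family.1
    (IsNoetherian.noetherian ((img f η).comap (X.presheaf.germ U η hηU).hom))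
  have hloc : ∀ i, ∃ (W : X.Opens) (_ : η ∈ W) (hW : W ≤ U) (t : Γ(P, W)),
      val f W t = X.presheaf.map (homOfLE hW).op (a i) := by
    intro i
    obtain ⟨W, hW, q, hq⟩ :
        a i ∈ (img f η).comap (X.presheaf.germ U η hηU).hom := ha ▸ Submodule.subset_span ⟨i, rfl⟩
    obtain ⟨W', hW', i₁, i₂, h⟩ := TopCat.Presheaf.germ_eq X.presheaf η hW hηU _ _ hq
    refine ⟨W', hW', i₂.le, P.presheaf.map (homOfLE i₁.le).op q, ?_⟩
    rw [val_map]
    exact h
  choose W hηW hWU t ht using hloc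
  let W₀ : X.Opens := U ⊓ Finset.univ.inf W
  have hW₀i : ∀ i, W₀ ≤ W i := fun i => inf_le_right.trans (Finset.inf_le (Finset.mem_univ i))
  have hη₀ : η ∈ W₀ := ⟨hηU, by
    change η ∈ ((Finset.univ.inf W : X.Opens) : Set X)
    rw [Opens.coe_finset_inf, Finset.inf_eq_iInf]
    simpa using hηW⟩
  refine ⟨W₀, hη₀, k, fun i => P.presheaf.map (homOfLE (hW₀i i)).op (t i),
    fun y hy hspec P' f' hle V hyV q => ?_⟩
  have hyU : y ∈ U := hy.1
  letI : Algebra Γ(X, U) (X.presheaf.stalk y) := (X.presheaf.germ U y hyU).hom.toAlgebra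
  haveI := hU.isLocalization_stalk ⟨y, hyU⟩
  obtain ⟨⟨b, s⟩, hbs⟩ := IsLocalization.surj (hU.primeIdealOf ⟨y, hyU⟩).asIdeal.primeCompl
    (X.presheaf.germ V y hyV (val f' V q))
  have hs : IsUnit (X.presheaf.germ U y hyU s) :=
    IsLocalization.map_units (X.presheaf.stalk y) s
  let V₁ : X.Opens := V ⊓ U
  have hV₁ : y ∈ V₁ := ⟨hyV, hyU⟩
  have e1 : X.presheaf.germ V₁ y hV₁ (X.presheaf.map (homOfLE inf_le_left).op (val f' V q) *
      X.presheaf.map (homOfLE inf_le_right).op s) = X.presheaf.germ U y hyU b := by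
    rw [map_mul, TopCat.Presheaf.germ_res_apply, TopCat.Presheaf.germ_res_apply]
    exact hbs
  obtain ⟨V₂, hV₂, i₁, i₂, h₂⟩ := TopCat.Presheaf.germ_eq X.presheaf y hV₁ hyU _ _ e1
  have hηV₂ : η ∈ V₂ := hspec.mem_open V₂.2 hV₂
  have hb : b ∈ (img f η).comap (X.presheaf.germ U η hηU).hom := by
    change X.presheaf.germ U η hηU b ∈ img f η
    rw [← TopCat.Presheaf.germ_res_apply X.presheaf i₂ η hηV₂, ← h₂,
      TopCat.Presheaf.germ_res_apply, map_mul, TopCat.Presheaf.germ_res_apply,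
      TopCat.Presheaf.germ_res_apply]
    exact Ideal.mul_mem_right _ _ (hle ⟨V, _, q, rfl⟩)
  rw [← ha, Submodule.mem_span_range_iff_exists_fun] at hb
  obtain ⟨d, hd⟩ := hb
  let V₃ : X.Opens := V₂ ⊓ W₀ ⊓ X.basicOpen (s : Γ(X, U))
  have hyV₃ : y ∈ V₃ := ⟨⟨hV₂, hy⟩, (Scheme.mem_basicOpen X _ y hyU).2 hs⟩
  have hle2 : V₃ ≤ V₂ := inf_le_left.trans inf_le_left
  have hle0 : V₃ ≤ W₀ := inf_le_left.trans inf_le_right
  have hleU : V₃ ≤ U := hle0.trans inf_le_left
  have hleV : V₃ ≤ V := hle2.trans (i₁.le.trans inf_le_left)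
  have hsV₃ : IsUnit (X.presheaf.map (homOfLE hleU).op (s : Γ(X, U))) := by
    have h := RingedSpace.isUnit_res_basicOpen X.toLocallyRingedSpace.toRingedSpace (s : Γ(X, U))
    have h' := h.map (X.presheaf.map (homOfLE (show V₃ ≤ X.basicOpen (s : Γ(X, U)) from inf_le_right)).op).hom
    convert h' using 1
    exact (ConcreteCategory.congr_hom (X.presheaf.map_comp _ _) _)
  obtain ⟨σ, hσ⟩ := hsV₃
  refine ⟨V₃, hyV₃, hleV, hle0,
    fun i => ((σ⁻¹ : Γ(X, V₃)ˣ) : Γ(X, V₃)) * X.presheaf.map (homOfLE hleU).op (d i), ?_⟩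
  have h3 : X.presheaf.map (homOfLE hleV).op (val f' V q) * σ = X.presheaf.map (homOfLE hleU).op b := by
    rw [hσ]
    have h3' := congrArg (X.presheaf.map (homOfLE hle2).op) h₂
    rw [map_mul, map_mul] at h3'
    rw [res_res i₁ _ (hle2.trans i₁.le), res_res i₁ _ (hle2.trans i₁.le), res_res i₂ _ hleU,
      res_res _ _ hleV, res_res _ _ hleU] at h3'
    exact h3'
  rw [val_map, (Units.eq_mul_inv_iff_mul_eq σ).2 h3, ← hd]
  let evl : Γ(P, V₃) →+ Γ(X, V₃) := AddMonoidHom.mk' (val f V₃) (val_add f V₃)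
  change _ = evl _
  rw [map_sum, map_sum, Finset.sum_mul]
  refine Finset.sum_congr rfl fun i _ => ?_
  change _ = val f V₃ _
  rw [val_smul, smul_eq_mul, map_mul, val_map, val_map, ht]
  simp only [← ConcreteCategory.comp_apply, ← Functor.map_comp]
  rw [mul_right_comm, mul_comm (X.presheaf.map (homOfLE hleU).op (d i))]
  rfl

/-- A cover of a Noetherian sober space by neighbourhoods of finitely many points, along their
specializations. -/
theorem exists_finset_cover [IsNoetherian X] (W : X → X.Opens) (hW : ∀ η, η ∈ W η) :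
    ∃ S : Finset X, ∀ y : X, ∃ η ∈ S, y ∈ W η ∧ η ⤳ y := by
  classical
  suffices h : ∀ Z : Closeds X, ∃ S : Finset X, ∀ y ∈ (Z : Set X), ∃ η ∈ S, y ∈ W η ∧ η ⤳ y by
    obtain ⟨S, hS⟩ := h ⊤
    exact ⟨S, fun y => hS y trivial⟩
  intro Z
  induction Z using WellFoundedLT.induction with
  | _ Z ih =>
    obtain ⟨C, hCf, hC, hZ⟩ := NoetherianSpace.exists_finite_set_closeds_irreducible Z
    have hgen : ∀ T ∈ C, ∃ S : Finset X, ∀ y ∈ (T : Set X), ∃ η ∈ S, y ∈ W η ∧ η ⤳ y := by
      intro T hT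
      obtain ⟨η, hη⟩ := QuasiSober.sober (hC T hT) T.isClosed
      let T' : Closeds X := ⟨(T : Set X) \ (W η : Set X), T.isClosed.sdiff (W η).2⟩
      have hTZ : T ≤ Z := hZ ▸ le_sSup hT
      have hlt : T' < Z := by
        refine lt_of_lt_of_le (lt_of_le_not_ge (fun _ h => h.1) fun h => ?_) hTZ
        exact (h hη.mem).2 (hW η)
      obtain ⟨S, hS⟩ := ih T' hlt
      refine ⟨insert η S, fun y hy => ?_⟩
      by_cases hyW : y ∈ W η
      · exact ⟨η, Finset.mem_insert_self _ _, hyW, hη.specializes hy⟩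
      · obtain ⟨θ, hθ, h⟩ := hS y ⟨hy, hyW⟩
        exact ⟨θ, Finset.mem_insert_of_mem hθ, h⟩
    choose! S hS using hgen
    refine ⟨hCf.toFinset.biUnion S, fun y hy => ?_⟩
    obtain ⟨T, hT, hyT⟩ : ∃ T ∈ C, y ∈ (T : Set X) := by
      have hu : IsClosed (⋃ T ∈ C, (T : Set X)) := hCf.isClosed_biUnion fun T _ => T.isClosed
      rw [hZ, Closeds.coe_sSup, Set.sUnion_image, hu.closure_eq] at hy
      simpa only [Set.mem_iUnion, exists_prop] using hy
    obtain ⟨η, hη, h⟩ := hS T hT y hyT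
    exact ⟨η, Finset.mem_biUnion.2 ⟨T, hCf.mem_toFinset.2 hT, hη⟩, h⟩

end GrothLib.IdealACC20
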