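import Groth.Agent.Lib.IdealACC20.Basic
import Groth.Agent.Lib.OX.Exact
import Groth.Agent.Lib.OX.ExtZeroOpen

/-!
# Ascending chains of ideal sheaves on a Noetherian scheme are stationary
-/

set_option autoImplicit false
set_option maxHeartbeats 400000
set_option linter.style.haveILetI false
set_option backward.isDefEq.respectTransparency false

universe u

open CategoryTheory CategoryTheory.Limits AlgebraicGeometry Opposite TopologicalSpace

namespace GrothLib.IdealACC20

variable {X : Scheme.{u}}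

/-- An ascending chain of sheaves of ideals is stationary. -/
theorem exists_stationary [IsNoetherian X] (P : ℕ → X.Modules)
    (f : ∀ n, P n ⟶ Coh.structureModule X) [∀ n, Mono (f n)]
    (g : ∀ n m, n ≤ m → (P n ⟶ P m)) (hg : ∀ n m h, g n m h ≫ f m = f n) :
    ∃ N, ∀ m (h : N ≤ m), Epi (g N m h) := by
  classical
  have hmono : ∀ η, Monotone fun n => img (f n) η := fun η n m h => by
    change img (f n) η ≤ img (f m) η
    rw [← hg n m h]
    exact img_mono _ _ _
  haveI : ∀ η : X, IsNoetherianRing (X.presheaf.stalk η) := fun η => by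
    obtain ⟨_, ⟨U, hU, rfl⟩, hηU, -⟩ :=
      X.isBasis_affineOpens.exists_subset_of_mem_open (Set.mem_univ η) isOpen_univ
    haveI : IsNoetherianRing Γ(X, U) := IsLocallyNoetherian.component_noetherian ⟨U, hU⟩
    letI : Algebra Γ(X, U) (X.presheaf.stalk η) := (X.presheaf.germ U η hηU).hom.toAlgebra
    haveI := hU.isLocalization_stalk ⟨η, hηU⟩
    exact IsLocalization.isNoetherianRing (hU.primeIdealOf ⟨η, hηU⟩).asIdeal.primeCompl _ inferInstance
  have hst : ∀ η, ∃ n, ∀ m, n ≤ m → img (f n) η = img (f m) η := fun η =>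
    monotone_stabilizes_iff_noetherian.2 inferInstance ⟨_, hmono η⟩
  choose N hN using hst
  have hW := fun η => exists_nhd_gen (f (N η)) η
  choose W hηW k t ht using hW
  obtain ⟨S, hS⟩ := exists_finset_cover W hηW
  refine ⟨S.sup N, fun m hm => (OX.epi_iff _).2 fun y => ?_⟩
  obtain ⟨η, hη, hyW, hspec⟩ := hS y
  have hNm : N η ≤ m := (Finset.le_sup hη).trans hm
  rw [ModuleCat.epi_iff_surjective]
  intro e
  obtain ⟨V, hyV, q, rfl⟩ := OX.germ_exists (DCoh.toP.obj (P m)) e
  obtain ⟨V', hyV', hle, hW', c, hc⟩ := ht η y hyW hspec (P m) (f m) (hN η m hNm).ge V hyV q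
  let r : Γ(P (N η), V') := ∑ i, c i • (P (N η)).presheaf.map (homOfLE hW').op (t η i)
  have hr : (g (N η) m hNm).app V' r = (P m).presheaf.map (homOfLE hle).op q :=
    val_injective (f m) V' (by rw [← val_comp, hg]; exact hc.symm)
  have hgg : g (N η) (S.sup N) (Finset.le_sup hη) ≫ g (S.sup N) m hm = g (N η) m hNm :=
    (cancel_mono (f m)).1 (by rw [Category.assoc, hg, hg, hg])
  let r' : Γ(P (S.sup N), V') := (g (N η) (S.sup N) (Finset.le_sup hη)).app V' r
  refine ⟨OX.germ (x := y) (DCoh.toP.obj (P (S.sup N))) V' hyV' r', ?_⟩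
  refine (OX.stalkPre_map_germ (x := y) (DCoh.toP.map (g (S.sup N) m hm)) V' hyV' r').trans ?_
  refine Eq.trans (congrArg (OX.germ (x := y) (DCoh.toP.obj (P m)) V' hyV') ?_)
    (OX.germ_map (x := y) (DCoh.toP.obj (P m)) (homOfLE hle) hyV' q)
  change (g (S.sup N) m hm).app V' r' = (P m).presheaf.map (homOfLE hle).op q
  rw [← hr, ← hgg]
  rfl

/-- Finitely many sections generate all stalks of a sheaf of ideals. -/
theorem exists_finite_generating [IsNoetherian X] (G : X.Modules) (ι : G ⟶ Coh.structureModule X)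
    [Mono ι] : ∃ (m : ℕ) (U : Fin m → X.Opens) (k : Fin m → ℕ)
      (s : (i : Fin m) → Fin (k i) → Γ(G, U i)),
      ∀ y : X, ∀ (V : X.Opens), y ∈ V → ∀ q : Γ(G, V),
        ∃ (i : Fin m) (_ : y ∈ U i) (V' : X.Opens) (_ : y ∈ V') (h : V' ≤ V) (hW : V' ≤ U i)
          (c : Fin (k i) → Γ(X, V')),
          G.presheaf.map (homOfLE h).op q = ∑ j, c j • G.presheaf.map (homOfLE hW).op (s i j) := by
  classical
  choose W hηW k t ht using fun η => exists_nhd_gen ι η
  obtain ⟨S, hS⟩ := exists_finset_cover W hηW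
  let e := S.equivFin
  refine ⟨S.card, fun i => W (e.symm i).1, fun i => k (e.symm i).1, fun i => t (e.symm i).1,
    fun y V hyV q => ?_⟩
  obtain ⟨η, hη, hyW, hspec⟩ := hS y
  obtain ⟨i, rfl⟩ : ∃ i, (e.symm i).1 = η := ⟨e ⟨η, hη⟩, by rw [Equiv.symm_apply_apply]⟩
  obtain ⟨V', hyV', hle, hW', c, hc⟩ := ht _ y hyW hspec G ι le_rfl V hyV q
  exact ⟨i, hyW, V', hyV', hle, hW', c, val_injective ι V' hc⟩

variable {U : Scheme.{u}} (j : U ⟶ X) [IsOpenImmersion j]

/-- `j_! O_U` is a Noetherian object for an open immersion from a Noetherian scheme. -/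
theorem exists_stationary_extZeroUnit [IsNoetherian U]
    (c : ℕ →o Subobject (CxOX.extZeroUnit j)) : ∃ n : ℕ, ∀ m : ℕ, n ≤ m → c n = c m := by
  let P : ℕ → U.Modules := fun n => (Scheme.Modules.restrictFunctor j).obj (c n : X.Modules)
  let a := (asIso (CxOX.extZeroAdj j).unit).app (Coh.structureModule U)
  let f : ∀ n, P n ⟶ Coh.structureModule U := fun n =>
    (Scheme.Modules.restrictFunctor j).map (c n).arrow ≫ a.inv
  haveI : (Scheme.Modules.restrictFunctor j).PreservesMonomorphisms :=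
    Functor.preservesMonomorphisms_of_adjunction (CxOX.extZeroAdj j)
  haveI : ∀ n, Mono (f n) := fun n => mono_comp _ _
  let g : ∀ n m, n ≤ m → (P n ⟶ P m) := fun n m h =>
    (Scheme.Modules.restrictFunctor j).map (Subobject.ofLE _ _ (c.mono h))
  obtain ⟨N, hN⟩ := exists_stationary P f g fun n m h => by
    simp only [f, g]
    rw [← Category.assoc, ← Functor.map_comp, Subobject.ofLE_arrow]
  refine ⟨N, fun m hm => ?_⟩
  haveI := hN m hm
  have hepi : Epi (Subobject.ofLE _ _ (c.mono hm)) := (OX.epi_iff _).2 fun x => by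
    by_cases hx : x ∈ Set.range j
    · obtain ⟨y, rfl⟩ := hx
      exact OX.epi_stalk_map_of_restrict j _ y (hN m hm)
    · have hz : IsZero ((OX.stalk x).obj (c m : X.Modules)) :=
        IsZero.of_mono ((OX.stalk x).map (c m).arrow) (OX.isZero_stalk_extZero j _ x hx)
      exact ⟨fun u v _ => hz.eq_of_src _ _⟩
  haveI := isIso_of_mono_of_epi (Subobject.ofLE _ _ (c.mono hm))
  exact Subobject.eq_of_comm (asIso (Subobject.ofLE _ _ (c.mono hm))) (Subobject.ofLE_arrow _)

end GrothLib.IdealACC20
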